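import Groth.Agent.HomogOrbit27.Comp
import Groth.Agent.HomogOrbit27.Fibre
import Groth.Agent.ConsPairLib.DimCons
import Groth.Agent.VarBC.Dim
import Groth.Agent.S5348
import Mathlib.AlgebraicGeometry.AlgClosed.Basic

/-!
# Equidimensionality of homogeneous schemes
-/

set_option autoImplicit false
set_option linter.style.haveILetI false
universe u

open CategoryTheory MonoidalCategory CartesianMonoidalCategory MonObj GrpObj AlgebraicGeometry
  Limits

noncomputable section

namespace Groth.Agent.HomogDim27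

open Groth.Agent.GrpScheme Groth.Agent.HomogOrbit27

variable {k : Type u} [Field k]

attribute [local instance] specializationOrder

/-- A neighbourhood of a point has at least the dimension of the point. -/
lemma dimPt_le_topDim {X : Scheme.{u}} [X.Over (Spec (CommRingCat.of k))]
    [LocallyOfFiniteType (X ↘ Spec (CommRingCat.of k))] (θ : X) (V : X.Opens) (hθ : θ ∈ V) :
    (VarDim.dimPt k X θ : WithBot ℕ∞) ≤ topologicalKrullDim ↥(V : Set X) := by
  obtain ⟨y, hy, hyV, hy0⟩ := VarDim.exists_le_dimPt_eq_zero k θ V hθ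
  obtain ⟨-, l, hlh, -, hlen⟩ := VarDim.exists_ltSeries_of_le k hy
  rw [hy0, zero_add] at hlen
  have hmem : ∀ i, l i ∈ V := fun i => by
    have h1 : l i ⤳ y := hlh ▸ l.monotone (Fin.zero_le i)
    exact h1.mem_open V.2 hyV
  rw [← hlen]
  have hmono : StrictMono (fun i => (⟨closure {(⟨l i, hmem i⟩ : (V : Set X))},
      isIrreducible_singleton.closure, isClosed_closure⟩ :
        TopologicalSpace.IrreducibleCloseds (V : Set X))) := by
    intro i j hij
    refine lt_of_le_of_ne ?_ fun h => hij.ne (l.strictMono.injective ?_)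
    · have h1 : l j ⤳ l i := l.monotone hij.le
      exact closure_minimal (Set.singleton_subset_iff.mpr
        (specializes_iff_mem_closure.mp ((subtype_specializes_iff _ _).mpr h1))) isClosed_closure
    · have h' := congrArg TopologicalSpace.IrreducibleCloseds.carrier h
      exact congrArg Subtype.val ((specializes_iff_closure_subset.mpr h'.ge).antisymm
        (specializes_iff_closure_subset.mpr h'.le)).eq
  exact Order.le_krullDim_iff.mpr ⟨LTSeries.mk l.length _ hmono, rfl⟩

/-- Over an algebraically closed field all components of a homogeneous scheme have the same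
dimension. -/
theorem dimPt_eq_of_isAlgClosed [IsAlgClosed k] {G X : Over (Spec (CommRingCat.of k))} [GrpObj G]
    [LocallyOfFiniteType G.hom] [LocallyOfFiniteType X.hom] (a : AlgGrp.Action G X)
    (hΦ : Surjective (lift a.act (snd G X)).left) {θ₁ θ₂ : X.left}
    (h₁ : Component.IsMaxGen θ₁) (h₂ : Component.IsMaxGen θ₂) :
    topologicalKrullDim ↥(closure {θ₁}) = topologicalKrullDim ↥(closure {θ₂}) := by
  haveI : IsLocallyNoetherian X.left := LocallyOfFiniteType.isLocallyNoetherian X.hom
  haveI : JacobsonSpace X.left := LocallyOfFiniteType.jacobsonSpace X.hom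
  let rat : ∀ {Y : Over (Spec (CommRingCat.of k))} [LocallyOfFiniteType Y.hom] (y : Y.left),
      IsClosed {y} → (𝟙_ (Over (Spec (CommRingCat.of k))) ⟶ Y) := fun {Y} _ y hy =>
    Over.homMk (pointOfClosedPoint Y.hom y hy) (pointOfClosedPoint_comp Y.hom y hy)
  have hrat : ∀ {Y : Over (Spec (CommRingCat.of k))} [LocallyOfFiniteType Y.hom] (y : Y.left)
      (hy : IsClosed {y}) t, (rat y hy).left t = y := fun {Y} _ y hy t =>
    pointOfClosedPoint_apply Y.hom y hy t
  obtain ⟨O₁, hθ₁, hO₁⟩ := exists_open_specializations θ₁ h₁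
  obtain ⟨O₂, hθ₂, hO₂⟩ := exists_open_specializations θ₂ h₂
  obtain ⟨p₁, hp₁, hc₁⟩ := nonempty_inter_closedPoints (Z := (O₁ : Set X.left)) ⟨θ₁, hθ₁⟩
    O₁.2.isLocallyClosed
  obtain ⟨p₂, hp₂, hc₂⟩ := nonempty_inter_closedPoints (Z := (O₂ : Set X.left)) ⟨θ₂, hθ₂⟩
    O₂.2.isLocallyClosed
  let x₁ := rat p₁ hc₁
  let x₂ := rat p₂ hc₂
  obtain ⟨t⟩ := (inferInstance : Nonempty (Spec (CommRingCat.of k)))
  let w : (X ⊗ X).left := (lift x₁ x₂).left t
  have hw₁ : (fst X X).left w = p₁ := by
    show (fst X X).left ((lift x₁ x₂).left t) = p₁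
    rw [← Points.comp_apply, lift_fst]
    exact hrat _ _ _
  have hw₂ : (snd X X).left w = p₂ := by
    show (snd X X).left ((lift x₁ x₂).left t) = p₂
    rw [← Points.comp_apply, lift_snd]
    exact hrat _ _ _
  haveI : LocallyOfFiniteType (G ⊗ X).hom :=
    inferInstanceAs (LocallyOfFiniteType (pullback.fst G.hom X.hom ≫ G.hom))
  haveI : JacobsonSpace (G ⊗ X).left := LocallyOfFiniteType.jacobsonSpace (G ⊗ X).hom
  let F := (fst X X).left ⁻¹' {p₁} ∩ (snd X X).left ⁻¹' {p₂}
  have hF : IsClosed ((lift a.act (snd G X)).left ⁻¹' F) :=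
    ((hc₁.preimage (fst X X).left.continuous).inter (hc₂.preimage (snd X X).left.continuous)).preimage
      (lift a.act (snd G X)).left.continuous
  obtain ⟨v₀, hv₀⟩ := hΦ.surj w
  obtain ⟨v, hv, hvc⟩ := nonempty_inter_closedPoints (Z := (lift a.act (snd G X)).left ⁻¹' F)
    ⟨v₀, show (lift a.act (snd G X)).left v₀ ∈ F from hv₀.symm ▸ ⟨hw₁, hw₂⟩⟩ hF.isLocallyClosed
  let gv := rat v hvc
  let g := gv ≫ fst G X
  let x := gv ≫ snd G X
  have hx : x.left t = p₂ := by
    show (gv ≫ snd G X).left t = p₂
    rw [← show lift a.act (snd G X) ≫ snd X X = snd G X from lift_snd _ _, Points.comp_apply,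
      Points.comp_apply, show gv.left t = v from hrat v hvc t]
    exact hv.2
  have hgx : (Basic.smul a g x).left t = p₁ := by
    rw [show Basic.smul a g x = gv ≫ lift a.act (snd G X) ≫ fst X X by
      rw [lift_fst, Basic.smul, ← comp_lift, lift_fst_snd, Category.comp_id],
      Points.comp_apply, Points.comp_apply, show gv.left t = v from hrat v hvc t]
    exact hv.1
  let φ : X ≅ X :=
    { hom := Basic.smul a (toUnit X ≫ g) (𝟙 X)
      inv := Basic.smul a (toUnit X ≫ g)⁻¹ (𝟙 X)
      hom_inv_id := by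
        rw [Basic.comp_smul, Category.comp_id, GrpObj.comp_inv, ← Category.assoc,
          toUnit_unique (_ ≫ toUnit X) (toUnit X), Basic.inv_smul_smul']
      inv_hom_id := by
        rw [Basic.comp_smul, Category.comp_id, ← Category.assoc,
          toUnit_unique (_ ≫ toUnit X) (toUnit X), Basic.smul_inv_smul'] }
  haveI : IsIso φ.hom := Iso.isIso_hom φ
  haveI : IsIso φ.hom.left := Basic.isIso_left _
  let e := φ.hom.left.homeomorph
  have he : e p₂ = p₁ := by
    rw [← hgx, ← hx]
    show φ.hom.left (x.left t) = _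
    rw [← Points.comp_apply, Basic.comp_smul, Category.comp_id, ← Category.assoc,
      toUnit_unique (x ≫ toUnit X) (toUnit _), toUnit_unique (toUnit _) (𝟙 _), Category.id_comp]
  have heθ : e θ₂ = θ₁ := by
    refine uniqueComp a hΦ p₁ _ _ (fun w hw => ?_) h₁ (he ▸ (hO₂ p₂ hp₂).map e.continuous) (hO₁ p₁ hp₁)
    obtain ⟨w', rfl⟩ := e.surjective w
    rw [h₂ w' (e.isEmbedding.specializes_iff.mp hw)]
  have himg : e '' closure {θ₂} = closure {θ₁} := by
    rw [e.image_closure, Set.image_singleton, heθ]
  rw [← himg]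
  exact (IsHomeomorph.topologicalKrullDim_eq _ (e.image (closure {θ₂})).isHomeomorph).symm

/-- All components of a homogeneous scheme locally of finite type over a field have the same
dimension. -/
theorem topDim_connectedComponent {G X : Over (Spec (CommRingCat.of k))} [GrpObj G]
    [LocallyOfFiniteType G.hom] [LocallyOfFiniteType X.hom] (a : AlgGrp.Action G X)
    (hΦ : Surjective (lift a.act (snd G X)).left) (x y : X.left) :
    topologicalKrullDim ↥(connectedComponent x) = topologicalKrullDim ↥(connectedComponent y) := by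
  haveI : IsLocallyNoetherian X.left := LocallyOfFiniteType.isLocallyNoetherian X.hom
  let Ω := AlgebraicClosure k
  let f : Spec (CommRingCat.of Ω) ⟶ Spec (CommRingCat.of k) :=
    Spec.map (CommRingCat.ofHom (algebraMap k Ω))
  let G' := Red.bc f G
  let X' := Red.bc f X
  haveI : LocallyOfFiniteType G'.hom := inferInstanceAs (LocallyOfFiniteType (pullback.snd G.hom f))
  haveI : LocallyOfFiniteType X'.hom := inferInstanceAs (LocallyOfFiniteType (pullback.snd X.hom f))
  letI : X'.left.Over (Spec (CommRingCat.of Ω)) := ⟨X'.hom⟩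
  haveI : LocallyOfFiniteType (X'.left ↘ Spec (CommRingCat.of Ω)) :=
    inferInstanceAs (LocallyOfFiniteType X'.hom)
  suffices h : ∀ x : X.left, topologicalKrullDim ↥(connectedComponent x) = topologicalKrullDim X'.left by
    rw [h x, h y]
  intro x
  obtain ⟨θ, hθ, hθx⟩ := Component.exists_isMaxGen x
  rw [connectedComponent_eq a hΦ hθ hθx]
  obtain ⟨O, hθO, hO⟩ := exists_open_specializations θ hθ
  obtain ⟨U, hU, hθU, hUO⟩ := exists_isAffineOpen_mem_and_subset hθO
  letI : X.left.Over (Spec (CommRingCat.of k)) := ⟨X.hom⟩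
  haveI : LocallyOfFiniteType (X.left ↘ Spec (CommRingCat.of k)) :=
    inferInstanceAs (LocallyOfFiniteType X.hom)
  have hUdim : topologicalKrullDim ↥(closure {θ}) = topologicalKrullDim U.toScheme := by
    refine le_antisymm ?_ ?_
    · rw [VarBC.Dim.topDim_closure k]
      exact dimPt_le_topDim θ U hθU
    · exact (Topology.IsInducing.topologicalKrullDim_le
        (f := fun w : U.toScheme => (⟨w.1, specializes_iff_mem_closure.mp (hO _ (hUO w.2))⟩ : ↥(closure {θ})))
        ⟨by rw [instTopologicalSpaceSubtype, induced_compose]; rfl⟩)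
  rw [hUdim]
  let U' : X'.left.Opens := pullback.fst X.hom f ⁻¹ᵁ U
  have hbc : topologicalKrullDim U'.toScheme = topologicalKrullDim U.toScheme := by
    haveI : IsAffine U.toScheme := hU
    haveI : Subsingleton (Spec (CommRingCat.of k)) := inferInstanceAs (Subsingleton (PrimeSpectrum k))
    haveI : Subsingleton (Spec (CommRingCat.of Ω)) := inferInstanceAs (Subsingleton (PrimeSpectrum Ω))
    exact ConsPairLib.topDim_baseChange_affine (U.ι ≫ X.hom)
      ((isPullback_morphismRestrict (pullback.fst X.hom f) U).paste_vert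
        (IsPullback.of_hasPullback X.hom f))
  rw [← hbc]
  obtain ⟨θ', hθ', hθ'θ⟩ : ∃ θ', Component.IsMaxGen (X := X'.left) θ' ∧ θ' ∈ U' := by
    haveI : Surjective f := ⟨Function.surjective_to_subsingleton (β := PrimeSpectrum k) _⟩
    haveI : Surjective (pullback.fst X.hom f) := inferInstance
    obtain ⟨w, hw⟩ := (pullback.fst X.hom f).surjective θ
    obtain ⟨θ', hθ', hθ'w⟩ := Component.exists_isMaxGen (X := X'.left) w
    exact ⟨θ', hθ', hθ'w.mem_open U'.2 (show pullback.fst X.hom f w ∈ U from hw ▸ hθU)⟩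
  refine le_antisymm (topologicalKrullDim_subspace_le X'.left _) ?_
  rw [VarDim.topologicalKrullDim_eq_iSup Ω (X := X'.left)]
  refine iSup_le fun z => ?_
  obtain ⟨θz, hθz, hzz⟩ := Component.exists_isMaxGen (X := X'.left) z
  have h1 : (VarDim.dimPt Ω X'.left z : WithBot ℕ∞) ≤ VarDim.dimPt Ω X'.left θz := by
    exact_mod_cast (VarDim.exists_ltSeries_of_le Ω (show z ≤ θz from hzz)).1
  refine h1.trans (le_of_eq_of_le ?_ (dimPt_le_topDim (k := Ω) (X := X'.left) θ' U' hθ'θ))
  rw [← VarBC.Dim.topDim_closure Ω (X := X'.left), ← VarBC.Dim.topDim_closure Ω (X := X'.left)]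
  exact dimPt_eq_of_isAlgClosed (a.bc f) (S5348.surjective_bc f a hΦ) hθz hθ'

end Groth.Agent.HomogDim27
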